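import Groth.Agent.CIntH2.HilbertFlat
import Groth.Agent.CAlgH.GenericNormallyFlat
import Groth.Agent.CycLib28.StalkLocal
import Groth.Agent.Misc15.StalkLoc
import Groth.Agent.AssSch12.Primary
import Mathlib.RingTheory.LocalRing.Module

/-!
# The fibre dimensions of a normally flat module are invariant under specialization
-/

universe u

open IsLocalRing TensorProduct CategoryTheory AlgebraicGeometry

namespace Groth.Agent.CIntH2

open CInt15

variable {A : Type u} [CommRing A] [IsLocalRing A]

/-- `dim ((A/K)^d ⊗ k) = d`. -/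
theorem psi_pi_quot {K : Ideal A} (hK : K ≤ maximalIdeal A) (d : ℕ) :
    Ψ (A := A) (Fin d → A ⧸ K) = d := by
  let q : (Fin d → A ⧸ K) →ₗ[A] (Fin d → A ⧸ maximalIdeal A) := (Submodule.factor hK).compLeft (Fin d)
  have hq : Function.Surjective q := fun w => by
    choose a ha using fun i => Ideal.Quotient.mk_surjective (w i)
    exact ⟨fun i => Ideal.Quotient.mk K (a i), funext fun i => ha i⟩
  have hker : LinearMap.ker q = (maximalIdeal A • ⊤ : Submodule A (Fin d → A ⧸ K)) := by
    apply le_antisymm
    · intro v hv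
      choose a ha using fun i => Ideal.Quotient.mk_surjective (v i)
      rw [show v = ∑ i, a i • Pi.single i (1 : A ⧸ K) by
        funext j
        rw [Finset.sum_apply, Finset.sum_eq_single j (fun b _ hb => by simp [hb.symm]) (by simp)]
        rw [Pi.smul_apply, Pi.single_eq_same, ← ha j, Algebra.smul_def, mul_one]
        rfl]
      refine Submodule.sum_mem _ fun i _ => Submodule.smul_mem_smul ?_ trivial
      have : Submodule.factor hK (v i) = 0 := congrFun (LinearMap.mem_ker.1 hv) i
      rw [← ha i] at this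
      exact Ideal.Quotient.eq_zero_iff_mem.1 this
    · rw [Submodule.smul_le]
      intro a ha v _
      rw [LinearMap.mem_ker, map_smul]
      funext i
      rw [Pi.smul_apply, Pi.zero_apply, ← algebraMap_smul (A ⧸ maximalIdeal A), Ideal.Quotient.algebraMap_eq,
        Ideal.Quotient.eq_zero_iff_mem.2 ha, zero_smul]
  let e := (Submodule.quotEquivOfEq _ _ hker.symm).trans (q.quotKerEquivOfSurjective hq)
  let := Ideal.Quotient.field (maximalIdeal A)
  rw [Ψ, LinearEquiv.finrank_eq (e.extendScalarsOfSurjective Ideal.Quotient.mk_surjective),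
    Module.finrank_pi, Fintype.card_fin]

open CAlgH.GenericNormallyFlat in
/-- Normal flatness makes the fibre dimensions invariant under localization. -/
theorem phi_localization [IsNoetherianRing A] (K : Ideal A) (hK : K ≤ maximalIdeal A)
    (M : Type u) [AddCommGroup M] [Module A M] [Module.Finite A M] (hnf : EGA4.IsNormallyFlat K M)
    (S : Submonoid A) (A' : Type u) [CommRing A'] [IsLocalRing A'] [Algebra A A'] [IsLocalization S A']
    (hK' : K.map (algebraMap A A') ≤ maximalIdeal A')
    {M' : Type u} [AddCommGroup M'] [Module A M'] [Module A' M'] [IsScalarTower A A' M']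
    (φ : M →ₗ[A] M') [IsLocalizedModule S φ] (j : ℕ) :
    Φ M' (K.map (algebraMap A A')) j = Φ M K j := by
  obtain ⟨e⟩ := nonempty_equiv K S A' φ j
  have : Nontrivial (A ⧸ K) :=
    Ideal.Quotient.nontrivial_iff.2 fun h => (maximalIdeal.isMaximal A).ne_top (top_le_iff.1 (h ▸ hK))
  have : IsLocalRing (A ⧸ K) := .of_surjective' (Ideal.Quotient.mk K) Ideal.Quotient.mk_surjective
  haveI : Module.Finite (A ⧸ K) (Pc K M j) := Module.Finite.of_restrictScalars_finite A _ _
  haveI : Module.Flat (A ⧸ K) (Pc K M j) := hnf j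
  haveI : Module.Free (A ⧸ K) (Pc K M j) := Module.free_of_flat_of_isLocalRing
  let b := Module.finBasis (A ⧸ K) (Pc K M j)
  let d := Module.finrank (A ⧸ K) (Pc K M j)
  let f : Pc K M j ≃ₗ[A] (Fin d → A ⧸ K) := b.equivFun.restrictScalars A
  rw [Φ, Φ, ← psi_quot (P := ↥(PM K M j)) hK, ← psi_quot (P := ↥(PM (K.map (algebraMap A A')) M' j)) hK',
    psi_congr f, psi_pi_quot hK]
  let Q := A' ⧸ K.map (algebraMap A A')
  haveI : IsScalarTower A (A ⧸ K) Q := .of_algebraMap_eq fun _ => rfl
  haveI : TensorProduct.CompatibleSMul A (A ⧸ K) Q (Pc K M j) := ⟨fun r q p => by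
    obtain ⟨a, rfl⟩ := Ideal.Quotient.mk_surjective r
    rw [← Ideal.Quotient.algebraMap_eq, algebraMap_smul, algebraMap_smul, TensorProduct.smul_tmul]⟩
  let g : Q ⊗[A] Pc K M j ≃ₗ[Q] (Fin d → Q) :=
    (TensorProduct.equivOfCompatibleSMul A (A ⧸ K) Q Q (Pc K M j)).symm.trans
      (Algebra.TensorProduct.basis Q b).equivFun
  let h : Pc (K.map (algebraMap A A')) M' j ≃ₗ[A'] (Fin d → Q) := (e.symm.trans g).restrictScalars A'
  rw [psi_congr h, psi_pi_quot hK']

variable {X : Scheme.{u}}

/-- The fibre dimensions of a normally flat coherent stalk are invariant under generalization. -/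
theorem phi_generization [IsLocallyNoetherian X] {F : X.Modules} (hF : Coh.IsCoh F) {x z : X} (hh : z ⤳ x)
    (K : Ideal (X.presheaf.stalk x)) (hK : K ≤ maximalIdeal _)
    (hle : K.map (X.presheaf.stalkSpecializes hh).hom ≤ maximalIdeal _)
    (hnf : EGA4.IsNormallyFlat K ↑(F.presheaf.stalk x)) (j : ℕ) :
    Φ ↑(F.presheaf.stalk z) (K.map (X.presheaf.stalkSpecializes hh).hom) j = Φ ↑(F.presheaf.stalk x) K j := by
  obtain ⟨P, rfl⟩ : z ∈ Set.range (X.fromSpecStalk x) := by
    rw [Scheme.range_fromSpecStalk]; exact hh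
  haveI : P.asIdeal.IsPrime := P.isPrime
  letI := (X.presheaf.stalkSpecializes hh).hom.toAlgebra
  letI := Module.compHom (F.presheaf.stalk (X.fromSpecStalk x P)) (X.presheaf.stalkSpecializes hh).hom
  haveI : IsScalarTower (X.presheaf.stalk x) (X.presheaf.stalk (X.fromSpecStalk x P))
      (F.presheaf.stalk (X.fromSpecStalk x P)) := IsScalarTower.of_algebraMap_smul fun _ _ => rfl
  obtain ⟨ρ, -, hρ⟩ := CycLib28.isLocalizedModule_stalkSpecializes hF.1 x P
  haveI := hρ
  haveI : IsLocalization P.asIdeal.primeCompl (X.presheaf.stalk (X.fromSpecStalk x P)) := by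
    have hloc := Misc15.isLocalization_stalkSpecializes hh
    have e : (IsUnit.submonoid (X.presheaf.stalk (X.fromSpecStalk x P))).comap
        (X.presheaf.stalkSpecializes hh).hom = P.asIdeal.primeCompl := by
      ext a
      have h1 := congrArg PrimeSpectrum.asIdeal (CycLib28.eq_comap_closedPoint x P)
      rw [PrimeSpectrum.comap_asIdeal] at h1
      change IsUnit _ ↔ a ∉ P.asIdeal
      rw [h1, Ideal.mem_comap]
      exact IsLocalRing.notMem_maximalIdeal.symm
    rwa [e] at hloc
  haveI := AssSch12.finite_stalk hF x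
  exact phi_localization K hK _ hnf P.asIdeal.primeCompl _ hle ρ j

/-- The fibre dimensions along a closed subscheme are invariant under specialization. -/
theorem phi_specializes [IsLocallyNoetherian X] {Y : Scheme.{u}} (i : Y ⟶ X) [IsClosedImmersion i]
    {F : X.Modules} (hF : Coh.IsCoh F) {η y : Y} (hs : η ⤳ y)
    (hnf : EGA4.IsNormallyFlat (RingHom.ker (i.stalkMap y).hom) ↑(F.presheaf.stalk (i y))) (j : ℕ) :
    Φ ↑(F.presheaf.stalk (i η)) (RingHom.ker (i.stalkMap η).hom) j =
      Φ ↑(F.presheaf.stalk (i y)) (RingHom.ker (i.stalkMap y).hom) j := by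
  have hker := Misc15.ker_stalkMap_eq_map i hs (i.stalkMap_surjective y)
  rw [hker]
  exact phi_generization hF (hs.map i.continuous) _ (IsLocalRing.le_maximalIdeal (RingHom.ker_ne_top _))
    (hker ▸ IsLocalRing.le_maximalIdeal (RingHom.ker_ne_top _)) hnf j

end Groth.Agent.CIntH2
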